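import Mathlib.Algebra.Category.Ring.Under.Basic
import Mathlib.RingTheory.FinitePresentation
import Mathlib.RingTheory.RingHom.FinitePresentation
import Mathlib.CategoryTheory.Limits.IsLimit
import Mathlib.CategoryTheory.Filtered.Basic
import Mathlib.CategoryTheory.Category.Preorder

/-! A quotient of a polynomial ring in finitely many variables is the filtered colimit of its
finitely presented quotients, with surjective transition maps. -/

set_option autoImplicit false
universe u

namespace Groth.Agent.ColimFT

open CategoryTheory Limits MvPolynomial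

variable {R A : Type u} [CommRing R] [CommRing A] [Algebra R A] {n : ℕ} (π : MvPolynomial (Fin n) R →ₐ[R] A)

abbrev Idx := {T : Finset (MvPolynomial (Fin n) R) // ∀ g ∈ T, π g = 0}

variable {π}

abbrev alg (i : Idx π) : Type u := MvPolynomial (Fin n) R ⧸ Ideal.span (i.1 : Set (MvPolynomial (Fin n) R))

noncomputable def trans {i j : Idx π} (h : i ≤ j) : alg i →ₐ[R] alg j :=
  Ideal.Quotient.factorₐ R (Ideal.span_mono (Finset.coe_subset.mpr h))

theorem trans_mk {i j : Idx π} (h : i ≤ j) (p : MvPolynomial (Fin n) R) :
    trans h (Ideal.Quotient.mk _ p) = Ideal.Quotient.mk _ p := rfl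

theorem trans_surjective {i j : Idx π} (h : i ≤ j) : Function.Surjective (trans h) := fun y => by
  obtain ⟨p, rfl⟩ := Ideal.Quotient.mk_surjective y
  exact ⟨Ideal.Quotient.mk _ p, rfl⟩

variable (π) in
noncomputable def diag : Idx π ⥤ Under (CommRingCat.of R) where
  obj i := CommRingCat.mkUnder (CommRingCat.of R) (alg i)
  map {i j} f := (trans (leOfHom f)).toUnder
  map_id i := by
    refine CommRingCat.mkUnder_ext fun (a : alg i) => ?_
    obtain ⟨p, rfl⟩ := Ideal.Quotient.mk_surjective a
    rfl
  map_comp {i j k} f g := by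
    refine CommRingCat.mkUnder_ext fun (a : alg i) => ?_
    obtain ⟨p, rfl⟩ := Ideal.Quotient.mk_surjective a
    rfl

noncomputable def toA (i : Idx π) : alg i →ₐ[R] A :=
  Ideal.Quotient.liftₐ _ π (fun _ hx => (Ideal.span_le.mpr (fun g hg => i.2 g hg) : _ ≤ RingHom.ker π.toRingHom) hx)

variable (π) in
noncomputable def cocone : Cocone (diag π) where
  pt := CommRingCat.mkUnder (CommRingCat.of R) A
  ι :=
    { app := fun i => (toA i).toUnder
      naturality := fun i j f => by
        refine CommRingCat.mkUnder_ext fun (a : alg i) => ?_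
        obtain ⟨p, rfl⟩ := Ideal.Quotient.mk_surjective a
        rfl }

instance : Nonempty (Idx π) := ⟨⟨∅, fun g hg => absurd hg (Finset.notMem_empty g)⟩⟩

instance : IsDirectedOrder (Idx π) := ⟨fun i j => by
  classical
  exact ⟨⟨i.1 ∪ j.1, fun g hg => (Finset.mem_union.mp hg).elim (i.2 g) (j.2 g)⟩,
    Finset.subset_union_left (s₁ := i.1), Finset.subset_union_right (s₂ := j.1)⟩⟩

noncomputable instance (priority := 10) algPt (s : Cocone (diag π)) : Algebra R s.pt.right := s.pt.hom.hom.toAlgebra

noncomputable def leg (s : Cocone (diag π)) (i : Idx π) : alg i →ₐ[R] s.pt.right :=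
  { (s.ι.app i).right.hom with
    commutes' := fun r => congrArg (fun f : CommRingCat.of R ⟶ s.pt.right => f r) (Under.w (s.ι.app i)) }

theorem leg_mk (s : Cocone (diag π)) {i j : Idx π} (h : i ≤ j) (p : MvPolynomial (Fin n) R) :
    leg s i (Ideal.Quotient.mk _ p) = leg s j (Ideal.Quotient.mk _ p) := by
  show (s.ι.app i).right (Ideal.Quotient.mk _ p) = (s.ι.app j).right (Ideal.Quotient.mk _ p)
  rw [← s.w (homOfLE h)]
  rfl

variable (π) in
noncomputable def empty : Idx π := ⟨∅, fun g hg => absurd hg (Finset.notMem_empty g)⟩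

noncomputable def descAlg (hπ : Function.Surjective π) (s : Cocone (diag π)) : A →ₐ[R] s.pt.right :=
  AlgHom.liftOfSurjective π hπ ((leg s (empty π)).comp (Ideal.Quotient.mkₐ R _)) (fun p hp => by
    let i : Idx π := ⟨{p}, fun g hg => by rw [Finset.mem_singleton.mp hg]; exact hp⟩
    show leg s (empty π) (Ideal.Quotient.mk _ p) = 0
    rw [leg_mk s (j := i) (Finset.empty_subset _),
      Ideal.Quotient.eq_zero_iff_mem.mpr (Ideal.subset_span (Finset.mem_singleton_self p)), map_zero])

variable (π) in
noncomputable def isColimit (hπ : Function.Surjective π) : IsColimit (cocone π) where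
  desc s := Under.homMk (CommRingCat.ofHom (descAlg hπ s).toRingHom)
    (CommRingCat.hom_ext (RingHom.ext fun r => (descAlg hπ s).commutes r))
  fac s i := by
    refine CommRingCat.mkUnder_ext fun (a : alg i) => ?_
    obtain ⟨p, rfl⟩ := Ideal.Quotient.mk_surjective a
    have e : descAlg hπ s (π p) = leg s (empty π) (Ideal.Quotient.mk _ p) := by
      rw [descAlg, AlgHom.liftOfSurjective_apply]; rfl
    exact e.trans (leg_mk s (j := i) (Finset.empty_subset _) p)
  uniq s m hm := by
    refine CommRingCat.mkUnder_ext fun (a : A) => ?_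
    obtain ⟨p, rfl⟩ := hπ a
    have h := congrArg (fun f : (diag π).obj (empty π) ⟶ s.pt => f.right (Ideal.Quotient.mk _ p)) (hm (empty π))
    have e : descAlg hπ s (π p) = leg s (empty π) (Ideal.Quotient.mk _ p) := by
      rw [descAlg, AlgHom.liftOfSurjective_apply]; rfl
    exact h.trans e.symm

theorem finitePresentation (i : Idx π) : Algebra.FinitePresentation R (alg i) :=
  Algebra.FinitePresentation.quotient ⟨i.1, rfl⟩

end Groth.Agent.ColimFT
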